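import Mathlib.AlgebraicGeometry.Morphisms.QuasiCompact
import Mathlib.AlgebraicGeometry.AffineScheme
import Mathlib.Algebra.Polynomial.Reverse
import Mathlib.Algebra.Polynomial.Monic

/-!
# An element whose inverse satisfies an equation with constant term one is integral
-/

set_option autoImplicit false
set_option backward.isDefEq.respectTransparency false
set_option backward.isDefEq.respectTransparency.types false

noncomputable section

universe u

open CategoryTheory AlgebraicGeometry Polynomial

namespace Groth.Agent.GsectIntegral13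

/-- A scheme has units where a section does not vanish anywhere. -/
theorem isUnit_of_mem {X : Scheme.{u}} (a : Γ(X, ⊤)) (h : ∀ x, x ∈ X.basicOpen a) : IsUnit a :=
  X.toRingedSpace.isUnit_of_isUnit_germ ⊤ a fun x hx => (X.toRingedSpace.mem_basicOpen a x hx).1 (h x)

theorem appTop_comp_apply {A B C : Scheme.{u}} (f : A ⟶ B) (g : B ⟶ C) (x : Γ(C, ⊤)) :
    f.appTop (g.appTop x) = (f ≫ g).appTop x := rfl

theorem mem_of_notMem_mul_sub_one {X : Scheme.{u}} (a b : Γ(X, ⊤)) (z : X) (hz : z ∉ X.basicOpen (a * b - 1)) :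
    z ∈ X.basicOpen b := by
  have h1 : z ∈ X.basicOpen (a * b + -(a * b - 1)) := by
    rw [show a * b + -(a * b - 1) = 1 by ring]
    exact (Scheme.basicOpen_of_isUnit _ isUnit_one).ge trivial
  rcases (Scheme.basicOpen_add_le _ _ _) h1 with h | h
  · rw [Scheme.basicOpen_mul] at h
    exact h.2
  · refine absurd ?_ hz
    rw [neg_eq_neg_one_mul, Scheme.basicOpen_mul] at h
    exact h.2

theorem exists_unit_of_mem {X : Scheme.{u}} (s : Γ(X, ⊤)) :
    ∃ t, (X.basicOpen s).ι.appTop s * t = 1 :=
  (isUnit_of_mem _ fun x =>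
    ((Scheme.preimage_basicOpen_top (X.basicOpen s).ι s).le (show (X.basicOpen s).ι x ∈ X.basicOpen s from x.2))).exists_right_inv

theorem exists_pow_mul_of_appTop_eq_zero {X : Scheme.{u}} [CompactSpace X] (s x : Γ(X, ⊤))
    (h : (X.basicOpen s).ι.appTop x = 0) : ∃ n : ℕ, s ^ n * x = 0 := by
  refine exists_pow_mul_eq_zero_of_res_basicOpen_eq_zero_of_isCompact X isCompact_univ x s ?_
  have e : (X.basicOpen s).ι.appTop ≫ (X.basicOpen s).topIso.hom =
      X.presheaf.map (homOfLE le_top : X.basicOpen s ⟶ ⊤).op := by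
    rw [Scheme.Opens.ι_appTop, Scheme.Opens.topIso_hom, ← Functor.map_comp]
    rfl
  have := congrArg (fun k => k x) e
  simp only [CommRingCat.comp_apply, h, map_zero] at this
  exact this.symm

/-- The equation of the inverse, reversed. -/
theorem exists_monic {R A : Type u} [CommRing R] [Nontrivial R] [CommRing A] (φ : R →+* A) (G : R[X]) (s t : A)
    (hst : s * t = 1) (hG : eval₂ φ t G = 0) (h0 : G.coeff 0 = 1) : ∃ q : R[X], q.Monic ∧ eval₂ φ s q = 0 := by
  letI : Invertible t := ⟨s, hst, by rw [mul_comm]; exact hst⟩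
  refine ⟨reflect G.natDegree G, monic_of_natDegree_le_of_coeff_eq_one G.natDegree ?_ ?_, ?_⟩
  · exact natDegree_le_iff_coeff_eq_zero.2 fun m hm => by
      rw [coeff_reflect, revAt_eq_self_of_lt hm]
      exact coeff_eq_zero_of_natDegree_lt hm
  · rw [coeff_reflect, revAt_le le_rfl, Nat.sub_self, h0]
  · have h := eval₂_reflect_mul_pow φ t G.natDegree G le_rfl
    rw [hG] at h
    exact (((isUnit_of_invertible t).pow _).mul_left_eq_zero).1 h

theorem eval₂_comp_hom {R A B : Type u} [CommRing R] [CommRing A] [CommRing B] (φ : R →+* A) (ψ : A →+* B)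
    (s : A) (q : R[X]) : eval₂ (ψ.comp φ) (ψ s) q = ψ (eval₂ φ s q) := (hom_eval₂ q φ ψ s).symm

end Groth.Agent.GsectIntegral13

end
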