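import Groth.Agent.GsectIntegral13.Alg
import Groth.Agent.AlgSpDec.HomToAffine
import Groth.Agent.AlgSpVal.UnivClosedAffine
import Groth.Agent.AlgSpDec.EtSite
import Groth.Agent.AlgSpPts.Univ

/-!
# Global functions on a space universally closed over an affine scheme are integral
-/

set_option autoImplicit false
set_option backward.isDefEq.respectTransparency false
set_option backward.isDefEq.respectTransparency.types false

noncomputable section

universe u

open CategoryTheory CategoryTheory.Limits Opposite AlgebraicGeometry AlgSp Polynomial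
open Groth.Agent.AlgSpLib

namespace Groth.Agent.GsectIntegral13

variable {S : Scheme.{u}} {X : Sp S}

/-- The value of a global function. -/
def val (s : ↥(gsectEt (OEt X) : CommRingCat.{u + 1})) (E : EtOver X) : Γ(E.obj.left.left, ⊤) :=
  ((limit.π (OEt X).obj (op E)) s).down

theorem val_map (s : ↥(gsectEt (OEt X) : CommRingCat.{u + 1})) {E E' : EtOver X} (g : E ⟶ E') :
    g.hom.left.left.appTop (val s E') = val s E :=
  congrArg ULift.down (congrArg (fun k => k s) (limit.w (OEt X).obj g.op))

/-- Two maps into a chart agreeing in the space pull a global function back equally. -/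
theorem val_pullback_eq (hX : IsAlgSpace X) (s : ↥(gsectEt (OEt X) : CommRingCat.{u + 1})) (E : EtOver X)
    {T : Over S} (a b : T ⟶ E.obj.left)
    (h : (yon S).map a ≫ E.obj.hom = (yon S).map b ≫ E.obj.hom) :
    a.left.appTop (val s E) = b.left.appTop (val s E) := by
  have hp : RepWith @Etale E.obj.hom := E.property
  have sq := hp.rep.isPullback' E.obj.hom
  have h1 : Etale (hp.rep.fst' E.obj.hom).left := hp.property _ _ _ sq.flip
  let E₁ : EtOver X := EtOver.mk ((yon S).map (hp.rep.fst' E.obj.hom) ≫ E.obj.hom)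
    (repWith_comp ((repWith_yon_map_iff _ _).2 h1) hp)
  let k₁ : E₁ ⟶ E := EtOver.homMk (hp.rep.fst' E.obj.hom) rfl
  let k₂ : E₁ ⟶ E := EtOver.homMk (hp.rep.snd E.obj.hom) sq.w.symm
  let r : T ⟶ hp.rep.pullback E.obj.hom := hp.rep.lift' a b h
  have hr₁ : r ≫ hp.rep.fst' E.obj.hom = a := hp.rep.lift'_fst _ _ _
  have hr₂ : r ≫ hp.rep.snd E.obj.hom = b := hp.rep.lift'_snd _ _ _
  rw [← hr₁, ← hr₂, Over.comp_left, Over.comp_left, Scheme.Hom.comp_appTop, Scheme.Hom.comp_appTop]
  change r.left.appTop (k₁.hom.left.left.appTop (val s E)) = r.left.appTop (k₂.hom.left.left.appTop (val s E))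
  rw [val_map, val_map]

variable (hX : IsAlgSpace X) {V : Over S} (f : X ⟶ (yon S).obj V) [IsAffine V.left]

theorem exists_compact_chart (hqc : IsQuasiCompactMor f) :
    ∃ E : EtOver X, RepWith @Surjective E.obj.hom ∧ CompactSpace ↥E.obj.left.left := by
  obtain ⟨U, p, hp, hps, hU⟩ := hqc (IsAlgSpace.yon_obj V) AlgSpVal.isQuasiCompactSp_yon (𝟙 _) (𝟙 X) f
    (IsPullback.of_vert_isIso ⟨by rw [Category.id_comp, Category.comp_id]⟩).flip
  exact ⟨EtOver.mk p hp, hps, hU⟩

/-- The affine line. -/
def line : Over S :=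
  Over.mk ((AlgSpDec.exists_hom_appTop (X := Spec (CommRingCat.of Γ(V.left, ⊤)[X]))
    (CommRingCat.ofHom (C : Γ(V.left, ⊤) →+* Γ(V.left, ⊤)[X]) ≫ (Scheme.ΓSpecIso _).inv)).choose ≫ V.hom)

/-- The projection of the affine line. -/
def lineπ : line (V := V) ⟶ V := Over.homMk _ rfl

theorem lineπ_appTop : (lineπ (V := V)).left.appTop =
    CommRingCat.ofHom (C : Γ(V.left, ⊤) →+* Γ(V.left, ⊤)[X]) ≫ (Scheme.ΓSpecIso _).inv :=
  (AlgSpDec.exists_hom_appTop _).choose_spec

/-- A polynomial as a function on the affine line. -/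
def fnLine (g : Γ(V.left, ⊤)[X]) : Γ((line (V := V)).left, ⊤) :=
  (Scheme.ΓSpecIso (CommRingCat.of Γ(V.left, ⊤)[X])).inv g

theorem fnLine_C (r : Γ(V.left, ⊤)) : fnLine (C r) = (lineπ (V := V)).left.appTop r := by
  rw [lineπ_appTop]
  rfl


theorem hom_fnLine (g : Γ(V.left, ⊤)[X]) :
    (Scheme.ΓSpecIso (CommRingCat.of Γ(V.left, ⊤)[X])).hom (fnLine g) = g :=
  congrArg (fun k : CommRingCat.of Γ(V.left, ⊤)[X] ⟶ CommRingCat.of Γ(V.left, ⊤)[X] => k g)
    (Scheme.ΓSpecIso (CommRingCat.of Γ(V.left, ⊤)[X])).inv_hom_id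

theorem mem_basicOpen_fnLine (g : Γ(V.left, ⊤)[X]) (x : PrimeSpectrum Γ(V.left, ⊤)[X]) :
    (x : ↥(line (V := V)).left) ∈ (line (V := V)).left.basicOpen (fnLine g) ↔ g ∉ x.asIdeal := by
  change x ∈ (Spec (CommRingCat.of Γ(V.left, ⊤)[X])).basicOpen ((Scheme.ΓSpecIso _).inv g) ↔ _
  rw [basicOpen_eq_of_affine]
  rfl

theorem toScheme_map_yon {A B : Over S} (a : A ⟶ B) (z : Points ((yon S).obj A)) :
    Points.toScheme B (Points.map ((yon S).map a) z) = a.left (Points.toScheme A z) := by
  conv_lhs => rw [← Points.ofScheme_toScheme A z]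
  rw [← Points.ofPt_eq_map_ofScheme, Points.toScheme_ofPt]

/-- Images of saturated closed sets under surjective open maps are closed. -/
theorem isClosed_image_of_saturated {A B : Type*} [TopologicalSpace A] [TopologicalSpace B] {q : A → B}
    (hc : Continuous q) (ho : IsOpenMap q) (hs : Function.Surjective q) {Z : Set A} (hZ : IsClosed Z)
    (hsat : ∀ z z', q z = q z' → z' ∈ Z → z ∈ Z) : IsClosed (q '' Z) := by
  refine ((ho.isQuotientMap hc hs).isClosed_preimage).1 ?_
  convert hZ using 1
  refine Set.ext fun z => ⟨fun ⟨z', hz', e⟩ => hsat z z' e.symm hz', fun h => ⟨z, h, rfl⟩⟩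

/-- A closed set of the affine line avoiding the origin kills a polynomial with constant term one. -/
theorem exists_poly {R : Type u} [CommRing R] (C : Set (PrimeSpectrum R[X])) (hC : IsClosed C)
    (h : ∀ x ∈ C, (Polynomial.X : R[X]) ∉ x.asIdeal) :
    ∃ g : R[X], g.coeff 0 = 1 ∧ ∀ x ∈ C, g ∈ x.asIdeal := by
  obtain ⟨J, rfl⟩ := (PrimeSpectrum.isClosed_iff_zeroLocus_ideal C).1 hC
  have htop : J ⊔ Ideal.span {(Polynomial.X : R[X])} = ⊤ := by
    rw [← PrimeSpectrum.zeroLocus_empty_iff_eq_top]
    refine Set.eq_empty_of_forall_notMem fun x hx => ?_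
    have hx' : J ⊔ Ideal.span {(Polynomial.X : R[X])} ≤ x.asIdeal := hx
    exact h x (le_sup_left.trans hx') (hx' (Ideal.mem_sup_right (Ideal.mem_span_singleton_self _)))
  obtain ⟨j, hj, k, hk, hjk⟩ := Submodule.mem_sup.1 ((Ideal.eq_top_iff_one _).1 htop)
  obtain ⟨l, rfl⟩ := Ideal.mem_span_singleton'.1 hk
  refine ⟨j, ?_, fun x hx => hx hj⟩
  have := congrArg (fun q : R[X] => q.coeff 0) hjk
  simpa using this

section chart

variable (E : EtOver X) (hs : RepWith @Surjective E.obj.hom)

/-- The chart over the affine scheme. -/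
def chartMap : E.obj.left ⟶ V := (yon S).preimage (E.obj.hom ≫ f)

omit [IsAffine V.left] in
theorem map_chartMap : (yon S).map (chartMap f E) = E.obj.hom ≫ f := (yon S).map_preimage _

/-- The affine line over the chart. -/
def lineU : Over S := pullback (chartMap f E) (lineπ (V := V))

/-- Its map to the line over the space. -/
def lineQ : (yon S).obj (lineU f E) ⟶ pullback f ((yon S).map (lineπ (V := V))) :=
  pullback.lift ((yon S).map (pullback.fst (chartMap f E) lineπ) ≫ E.obj.hom)
    ((yon S).map (pullback.snd (chartMap f E) lineπ)) (by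
      rw [Category.assoc, ← map_chartMap, ← Functor.map_comp, ← Functor.map_comp, pullback.condition])

theorem lineQ_isPullback : IsPullback ((yon S).map (pullback.fst (chartMap f E) (lineπ (V := V)))) (lineQ f E)
    E.obj.hom (pullback.fst f ((yon S).map (lineπ (V := V)))) :=
  IsPullback.of_bot (by
    rw [lineQ, pullback.lift_snd, ← map_chartMap]
    exact (IsPullback.of_hasPullback (chartMap f E) lineπ).map (yon S))
    (pullback.lift_fst _ _ _).symm (IsPullback.of_hasPullback _ _)

/-- The function cutting out the graph of the inverse. -/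
def graphFn (s : Γ(E.obj.left.left, ⊤)) : Γ((lineU f E).left, ⊤) :=
  let a : Γ((lineU f E).left, ⊤) := (pullback.fst (chartMap f E) (lineπ (V := V))).left.appTop s
  let b : Γ((lineU f E).left, ⊤) := (pullback.snd (chartMap f E) lineπ).left.appTop (fnLine Polynomial.X)
  a * b - 1

variable (s : ↥(gsectEt (OEt X) : CommRingCat.{u + 1}))

include hX hs in
theorem isClosed_image (huc : IsUnivClosedMor f) :
    IsClosed ((pullback.snd (chartMap f E) (lineπ (V := V))).left ''
      ((lineU f E).left.basicOpen (graphFn f E (val s E)) : Set ↥(lineU f E).left)ᶜ) := by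
  have hq : RepWith @Etale (lineQ f E) := repWith_of_isPullback (lineQ_isPullback f E) E.property
  have hqs : RepWith @Surjective (lineQ f E) := repWith_of_isPullback (lineQ_isPullback f E) hs
  have hqo : IsOpenMap (Points.map (lineQ f E)) :=
    AlgSpPts.isOpenMap_map (repWith_mono (P := @Etale) (Q := @UniversallyOpen)
      (fun _ _ j (hj : Etale j) => inferInstanceAs (UniversallyOpen j)) _ hq)
  let D : Set ↥(lineU f E).left := ((lineU f E).left.basicOpen (graphFn f E (val s E)) : Set ↥(lineU f E).left)ᶜ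
  have hD : IsClosed (Points.schemeHomeo (lineU f E) '' D) :=
    (Points.schemeHomeo _).isClosedMap _ ((lineU f E).left.basicOpen _).2.isClosed_compl
  have hC : IsClosed (Points.map (lineQ f E) '' (Points.schemeHomeo (lineU f E) '' D)) := by
    refine isClosed_image_of_saturated (Points.continuous_map _) hqo (surjective_map_of_repWith hqs) hD ?_
    rintro z z' hzz ⟨d', hd', rfl⟩
    have sqK := hq.rep.isPullback' (lineQ f E)
    obtain ⟨w, hw, hw'⟩ := exists_point_of_isPullback sqK (x := z) (y := Points.schemeHomeo _ d') hzz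
    refine ⟨Points.toScheme _ z, fun hz => hd' ?_, Points.ofScheme_toScheme _ z⟩
    have ha := congrArg (Points.toScheme (lineU f E)) hw
    have hb := congrArg (Points.toScheme (lineU f E)) hw'
    rw [toScheme_map_yon] at ha hb
    have hb' : Points.toScheme (lineU f E) (Points.schemeHomeo (lineU f E) d') = d' := Points.toScheme_ofScheme _ _
    rw [hb'] at hb
    rw [← ha] at hz
    rw [← hb]
    have h1 := (Scheme.preimage_basicOpen_top (hq.rep.fst' (lineQ f E)).left (graphFn f E (val s E))).le hz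
    refine (Scheme.preimage_basicOpen_top (hq.rep.snd (lineQ f E)).left (graphFn f E (val s E))).ge ?_
    have e1 : (hq.rep.fst' (lineQ f E) ≫ pullback.fst (chartMap f E) lineπ).left.appTop (val s E) =
        (hq.rep.snd (lineQ f E) ≫ pullback.fst (chartMap f E) lineπ).left.appTop (val s E) := by
      refine val_pullback_eq hX s E _ _ ?_
      rw [Functor.map_comp, Functor.map_comp, Category.assoc, Category.assoc,
        (lineQ_isPullback f E).w, ← Category.assoc, sqK.w, Category.assoc]
    have e2 : hq.rep.fst' (lineQ f E) ≫ pullback.snd (chartMap f E) lineπ =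
        hq.rep.snd (lineQ f E) ≫ pullback.snd (chartMap f E) lineπ := by
      apply (yon S).map_injective
      have := congrArg (· ≫ pullback.snd f ((yon S).map (lineπ (V := V)))) sqK.w
      simp only [Category.assoc, lineQ, pullback.lift_snd] at this
      rw [Functor.map_comp, Functor.map_comp]
      exact this
    have e : (hq.rep.fst' (lineQ f E)).left.appTop (graphFn f E (val s E)) =
        (hq.rep.snd (lineQ f E)).left.appTop (graphFn f E (val s E)) := by
      refine (map_sub _ _ _).trans (Eq.trans ?_ (map_sub _ _ _).symm)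
      refine congrArg₂ (· - ·) ((map_mul _ _ _).trans (Eq.trans (congrArg₂ (· * ·) ?_ ?_) (map_mul _ _ _).symm))
        ((map_one _).trans (map_one _).symm)
      · exact e1
      · exact congrArg (fun k : _ ⟶ line (V := V) => k.left.appTop (fnLine Polynomial.X)) e2
    rw [e] at h1
    exact h1
  have hsnd := huc (IsAlgSpace.yon_obj (line (V := V))) _ _ _ (IsPullback.of_hasPullback f ((yon S).map lineπ))
  have h := (Points.schemeHomeo (line (V := V))).symm.isClosedMap _ (hsnd _ hC)
  convert h using 1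
  rw [Set.image_image, Set.image_image, Set.image_image]
  refine Set.image_congr fun d _ => ?_
  rw [← Points.map_comp]
  have e : lineQ f E ≫ pullback.snd f ((yon S).map (lineπ (V := V))) =
      (yon S).map (pullback.snd (chartMap f E) lineπ) := pullback.lift_snd _ _ _
  rw [e]
  change _ = Points.toScheme _ (Points.map ((yon S).map (pullback.snd (chartMap f E) lineπ)) (Points.ofScheme _ d))
  rw [toScheme_map_yon, Points.toScheme_ofScheme]

omit hX hs in
theorem not_mem_origin (z : ↥(lineU f E).left) (hz : z ∉ (lineU f E).left.basicOpen (graphFn f E (val s E))) :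
    (pullback.snd (chartMap f E) (lineπ (V := V))).left z ∉
      ((line (V := V)).left.basicOpen (fnLine Polynomial.X) : Set ↥(line (V := V)).left)ᶜ := by
  intro h0
  have h := mem_of_notMem_mul_sub_one (X := (lineU f E).left) _ _ z hz
  exact h0 ((Scheme.preimage_basicOpen_top (pullback.snd (chartMap f E) lineπ).left (fnLine Polynomial.X)).ge h)

theorem exists_line_lift {t : Γ((E.obj.left.left.basicOpen (val s E)).toScheme, ⊤)}
    (ht : (E.obj.left.left.basicOpen (val s E)).ι.appTop (val s E) * t = 1) :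
    ∃ c : (E.obj.left.left.basicOpen (val s E)).toScheme ⟶ (lineU f E).left,
      (∀ u, c u ∉ (lineU f E).left.basicOpen (graphFn f E (val s E))) ∧
      ∀ g : Γ(V.left, ⊤)[X], (c ≫ (pullback.snd (chartMap f E) lineπ).left).appTop (fnLine g) =
        eval₂ ((E.obj.left.left.basicOpen (val s E)).ι.appTop.hom.comp (chartMap f E).left.appTop.hom) t g := by
  let O := E.obj.left.left.basicOpen (val s E)
  let φ := O.ι.appTop.hom.comp (chartMap f E).left.appTop.hom
  let ψ : Γ((line (V := V)).left, ⊤) ⟶ Γ(O.toScheme, ⊤) :=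
    (Scheme.ΓSpecIso (CommRingCat.of Γ(V.left, ⊤)[X])).hom ≫ CommRingCat.ofHom (eval₂RingHom φ t)
  haveI : IsAffine (line (V := V)).left := isAffine_Spec _
  obtain ⟨c₂, hc₂⟩ := AlgSpDec.exists_hom_appTop ψ
  have hψ : ∀ g, ψ (fnLine g) = eval₂ φ t g := fun g =>
    congrArg (eval₂RingHom φ t) (hom_fnLine g)
  have hw : c₂ ≫ (lineπ (V := V)).left = O.ι ≫ (chartMap f E).left := by
    refine ext_of_isAffine ?_
    rw [Scheme.Hom.comp_appTop, Scheme.Hom.comp_appTop, hc₂]
    ext r
    change ψ ((lineπ (V := V)).left.appTop r) = _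
    rw [← fnLine_C, hψ, eval₂_C]
    rfl
  let Us : Over S := Over.mk (O.ι ≫ E.obj.left.hom)
  let c₁ : Us ⟶ E.obj.left := Over.homMk O.ι rfl
  let c₂' : Us ⟶ line (V := V) := Over.homMk c₂ (by
    change c₂ ≫ (line (V := V)).hom = O.ι ≫ E.obj.left.hom
    rw [← Over.w (lineπ (V := V)), ← Category.assoc, hw, Category.assoc, Over.w])
  let c : Us ⟶ lineU f E := pullback.lift c₁ c₂' (Over.OverMorphism.ext hw.symm)
  have hsnd : c.left ≫ (pullback.snd (chartMap f E) (lineπ (V := V))).left = c₂ :=
    congrArg Over.Hom.left (pullback.lift_snd c₁ c₂' _)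
  have hfst : c.left ≫ (pullback.fst (chartMap f E) (lineπ (V := V))).left = O.ι :=
    congrArg Over.Hom.left (pullback.lift_fst c₁ c₂' _)
  have h2 : ∀ g, c.left.appTop ((pullback.snd (chartMap f E) (lineπ (V := V))).left.appTop (fnLine g)) =
      eval₂ φ t g := fun g => by
    refine (appTop_comp_apply _ _ _).trans ?_
    rw [hsnd, hc₂]
    exact hψ g
  refine ⟨c.left, fun u hu => ?_, fun g => ?_⟩
  · have he : c.left.appTop (graphFn f E (val s E)) = 0 := by
      have h4 : c.left.appTop ((pullback.fst (chartMap f E) (lineπ (V := V))).left.appTop (val s E)) =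
          O.ι.appTop (val s E) := (appTop_comp_apply _ _ _).trans (congrArg (fun k => k.appTop (val s E)) hfst)
      refine ((map_sub _ _ _).trans (congrArg₂ (· - ·) ((map_mul _ _ _).trans (congrArg₂ (· * ·) h4
        ((h2 _).trans (eval₂_X _ _)))) (map_one _))).trans ?_
      exact sub_eq_zero.2 ht
    have h3 := (Scheme.preimage_basicOpen_top c.left (graphFn f E (val s E))).le hu
    rw [he, Scheme.basicOpen_zero] at h3
    exact h3
  · exact ((appTop_comp_apply _ _ _).symm.trans (h2 g) :)

include hX hs in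
theorem exists_monic_chart (huc : IsUnivClosedMor f) [CompactSpace ↥E.obj.left.left] :
    ∃ q : Γ(V.left, ⊤)[X], q.Monic ∧ eval₂ (chartMap f E).left.appTop.hom (val s E) q = 0 := by
  rcases subsingleton_or_nontrivial Γ(V.left, ⊤) with h | h
  · exact ⟨0, Subsingleton.elim _ _, eval₂_zero _ _⟩
  let O := E.obj.left.left.basicOpen (val s E)
  obtain ⟨t, ht⟩ := exists_unit_of_mem (val s E)
  obtain ⟨g, hg0, hg⟩ := exists_poly (R := Γ(V.left, ⊤)) _ (isClosed_image hX f E hs s huc) (by
    rintro _ ⟨z, hz, rfl⟩ hX'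
    exact not_mem_origin f E s z hz fun hmem => ((mem_basicOpen_fnLine _ _).1 hmem) hX')
  obtain ⟨c, hc, hcg⟩ := exists_line_lift f E s ht
  haveI : CompactSpace ↥O.toScheme :=
    isCompact_iff_compactSpace.1 (isCompact_basicOpen _ isCompact_univ _)
  have hnil : IsNilpotent (eval₂ (O.ι.appTop.hom.comp (chartMap f E).left.appTop.hom) t g) := by
    rw [← hcg, Scheme.isNilpotent_iff_basicOpen_eq_bot]
    refine eq_bot_iff.2 fun u hu => ?_
    have h1 := (Scheme.preimage_basicOpen_top (c ≫ (pullback.snd (chartMap f E) lineπ).left) (fnLine g)).ge hu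
    have h2 := hg _ ⟨c u, hc u, rfl⟩
    exact ((mem_basicOpen_fnLine _ _).1 h1 h2).elim
  obtain ⟨n, hn⟩ := hnil
  rw [← eval₂_pow] at hn
  obtain ⟨q, hq, hq0⟩ := exists_monic _ (g ^ n) (O.ι.appTop (val s E)) t ht hn (by
    rw [coeff_zero_eq_eval_zero, eval_pow, ← coeff_zero_eq_eval_zero, hg0, one_pow])
  rw [eval₂_comp_hom] at hq0
  obtain ⟨m, hm⟩ := exists_pow_mul_of_appTop_eq_zero (val s E) _ hq0
  exact ⟨Polynomial.X ^ m * q, (monic_X_pow m).mul hq, by rw [eval₂_mul, eval₂_X_pow, hm]⟩

end chart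

theorem appTop_injective {E₂ E : EtOver X} (l : E₂ ⟶ E) (hl : Function.Surjective l.hom.left.left) :
    Function.Injective l.hom.left.left.appTop := by
  intro a b h
  have hR : Sieve.ofArrows (fun _ : PUnit.{u + 1} => E₂) (fun _ => l) ∈ etTop X E :=
    AlgSpDec.ofArrows_mem_etTop _ _ fun x => ⟨⟨⟩, hl x⟩
  have := (((isSheaf_iff_isSheaf_of_type _ _).1
    ((sheafCompose (etTop X) (CategoryTheory.forget CommRingCat.{u + 1})).obj (OEt X)).property).isSeparated _ hR).ext
    (t₁ := ULift.up a) (t₂ := ULift.up b) fun T g hg => by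
      obtain ⟨_, k, rfl⟩ := (Sieve.mem_ofArrows_iff _ _ _).1 hg
      refine congrArg ULift.up ?_
      change (k.hom.left.left ≫ l.hom.left.left).appTop a = (k.hom.left.left ≫ l.hom.left.left).appTop b
      rw [Scheme.Hom.comp_appTop, CommRingCat.comp_apply, CommRingCat.comp_apply, h]
  exact congrArg ULift.down this

omit [IsAffine V.left] in
theorem eval₂_res {E₂ E : EtOver X} (l : E₂ ⟶ E) (s : ↥(gsectEt (OEt X) : CommRingCat.{u + 1}))
    (q : Γ(V.left, ⊤)[X]) :
    l.hom.left.left.appTop (eval₂ (chartMap f E).left.appTop.hom (val s E) q) =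
      eval₂ (chartMap f E₂).left.appTop.hom (val s E₂) q := by
  have e : chartMap f E₂ = l.hom.left ≫ chartMap f E := (yon S).map_injective (by
    rw [Functor.map_comp, map_chartMap, map_chartMap, ← Category.assoc,
      show (yon S).map l.hom.left ≫ E.obj.hom = E₂.obj.hom from CategoryTheory.CostructuredArrow.w l.hom])
  rw [← eval₂_comp_hom, val_map, e, Over.comp_left, Scheme.Hom.comp_appTop]
  rfl

include hX in
theorem exists_monic_all (hqc : IsQuasiCompactMor f) (huc : IsUnivClosedMor f)
    (s : ↥(gsectEt (OEt X) : CommRingCat.{u + 1})) :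
    ∃ q : Γ(V.left, ⊤)[X], q.Monic ∧
      ∀ E : EtOver X, eval₂ (chartMap f E).left.appTop.hom (val s E) q = 0 := by
  obtain ⟨E₀, hs, hc⟩ := exists_compact_chart f hqc
  obtain ⟨q, hq, hq0⟩ := exists_monic_chart hX f E₀ hs s huc
  refine ⟨q, hq, fun E => ?_⟩
  have hp : RepWith @Etale E₀.obj.hom := E₀.property
  have sqE := hp.rep.isPullback' E.obj.hom
  let E₂ : EtOver X := EtOver.mk ((yon S).map (hp.rep.snd E.obj.hom) ≫ E.obj.hom)
    (repWith_comp ((repWith_yon_map_iff _ _).2 (hp.property_snd E.obj.hom)) E.property)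
  let l₁ : E₂ ⟶ E₀ := EtOver.homMk (hp.rep.fst' E.obj.hom) sqE.w
  let l₂ : E₂ ⟶ E := EtOver.homMk (hp.rep.snd E.obj.hom) rfl
  have hsurj : Surjective (hp.rep.snd E.obj.hom).left := hs.2 _ _ _ (hp.rep.isPullback E.obj.hom)
  refine appTop_injective l₂ hsurj.surj ?_
  rw [map_zero, eval₂_res f l₂, ← eval₂_res f l₁, hq0, map_zero]

end Groth.Agent.GsectIntegral13

end
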